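import Groth.Agent.H11Proj.PnGlobal
import Groth.Agent.H17.PullSectLocal

/-!
# Pulled back sections along composites, and transport of generating families
-/

set_option autoImplicit false
set_option linter.style.haveILetI false

noncomputable section

universe u

open CategoryTheory CategoryTheory.Limits AlgebraicGeometry Opposite TopologicalSpace CohB1
open Groth.Agent.H11Tilde Groth.Agent.H11Ample Groth.Agent.H11Proj

namespace Groth.Agent.LeadVA

variable {X X₀ Z Y : Scheme.{u}}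

/-- Pulling back in two steps, on the sections over an open containing the image. -/
theorem exists_iso_pullTop (j₀ : Z ⟶ X₀) (ι : X₀ ⟶ X) (j : Z ⟶ X) (h : j₀ ≫ ι = j) (L : X.Modules) :
    ∃ φ : (Scheme.Modules.pullback j₀).obj ((Scheme.Modules.pullback ι).obj L) ≅ (Scheme.Modules.pullback j).obj L,
      ∀ (W : X.Opens) (h₀ : (⊤ : X₀.Opens) ≤ ι ⁻¹ᵁ W) (hW : (⊤ : Z.Opens) ≤ j ⁻¹ᵁ W) (m : Γ(L, W)),
        φ.hom.app ⊤ (pullTop j₀ (((Scheme.Modules.pullback ι).obj L).presheaf.map (homOfLE h₀).op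
            (OmegaSh.pullSect ι L W m))) =
          ((Scheme.Modules.pullback j).obj L).presheaf.map (homOfLE hW).op (OmegaSh.pullSect j L W m) := by
  subst h
  let c := (Scheme.Modules.pullbackComp j₀ ι).app L
  refine ⟨c, fun W h₀ hW m => ?_⟩
  have e1 : pullTop j₀ (((Scheme.Modules.pullback ι).obj L).presheaf.map (homOfLE h₀).op
      (OmegaSh.pullSect ι L W m)) =
        ((Scheme.Modules.pullback j₀).obj _).presheaf.map (homOfLE (show (⊤ : Z.Opens) ≤ j₀ ⁻¹ᵁ (ι ⁻¹ᵁ W) from hW)).op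
          (OmegaSh.pullSect j₀ _ (ι ⁻¹ᵁ W) (OmegaSh.pullSect ι L W m)) :=
    pullSect_res j₀ _ h₀ _
  rw [e1, ← H17.PullSect.pullSect_comp, app_map_apply]
  refine congrArg _ ?_
  show (c.inv.app _ ≫ c.hom.app _) (OmegaSh.pullSect (j₀ ≫ ι) L W m) = _
  rw [← Scheme.Modules.Hom.comp_app, c.inv_hom_id]
  rfl

/-- Generating families transport along isomorphisms. -/
theorem globalVA_map_iso {q : X ⟶ Y} {M M' : X.Modules} (φ : M ≅ M') {k : ℕ} {v : Fin k → Γ(M, ⊤)}
    (hv : GlobalVA q v) : GlobalVA q (fun l => φ.hom.app ⊤ (v l)) := by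
  have hgen : ∀ l, gen M' (φ.hom.app ⊤ (v l)) = gen M (v l) := fun l => gen_iso φ.hom (v l)
  refine ⟨fun x => (hv.cover x).imp fun l h => (hgen l).ge h, fun U hU l => ?_, fun U hU l => ?_⟩
  · rw [hgen l]
    exact hv.affine U hU l
  · suffices key : ∀ (G : X.Opens) (hG : G ≤ q ⁻¹ᵁ U), G = gen M (v l) ⊓ q ⁻¹ᵁ U →
        Subring.closure (Set.range (q.appLE U G hG) ∪ globalCoefs (fun l => φ.hom.app ⊤ (v l)) l G) = ⊤ from
      key _ _ (congrArg (· ⊓ q ⁻¹ᵁ U) (hgen l))
    rintro G hG rfl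
    refine eq_top_iff.2 (le_trans (hv.surj U hU l).ge (Subring.closure_mono (Set.union_subset_union_right _ ?_)))
    rintro c ⟨m, hm⟩
    refine ⟨m, ?_⟩
    simp only [← app_map_apply, hm]
    exact Scheme.Modules.Hom.app_smul _ _ _

end Groth.Agent.LeadVA
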