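import Groth.Agent.LeadVA.Transport
import Groth.Agent.H8Props.ClosedImmersionNhd
import Groth.Agent.H11Sym.VeryAmpleOps

/-!
# Sections embedding one fibre embed the nearby fibres
-/

set_option autoImplicit false
set_option linter.style.haveILetI false
set_option linter.unusedSectionVars false

noncomputable section

universe u

open CategoryTheory CategoryTheory.Limits AlgebraicGeometry Opposite TopologicalSpace CohB1
open Groth.Agent.H11Tilde Groth.Agent.H11Ample Groth.Agent.H11Proj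

namespace Groth.Agent.LeadVA

variable {X S Z : Scheme.{u}} {K : Type u} [Field K]

/-- The map of projective spaces over a morphism of bases. -/
def projMap (n : ℕ) {S' : Scheme.{u}} (g : S' ⟶ S) : ProjSpaceOver n S' ⟶ ProjSpaceOver n S :=
  pullback.lift (pullback.fst _ _) (pullback.snd _ _ ≫ g)
    (pullback.condition.trans ((congrArg (_ ≫ ·) (specULiftZIsTerminal.hom_ext _ _)).trans (Category.assoc _ _ _).symm))

/-- The first projection. -/
abbrev pfst (n : ℕ) (S : Scheme.{u}) : ProjSpaceOver n S ⟶ ProjSpace n (ULift.{u} ℤ) :=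
  pullback.fst (ProjSpace.toSpec n (ULift.{u} ℤ)) (specULiftZIsTerminal.from S)

theorem projMap_fst (n : ℕ) {S' : Scheme.{u}} (g : S' ⟶ S) : projMap n g ≫ pfst n S = pfst n S' :=
  pullback.lift_fst _ _ _

theorem projMap_toBase (n : ℕ) {S' : Scheme.{u}} (g : S' ⟶ S) :
    projMap n g ≫ ProjSpaceOver.toBase n S = ProjSpaceOver.toBase n S' ≫ g :=
  pullback.lift_snd _ _ _

theorem hom_ext_toProj {n : ℕ} {T : Scheme.{u}} {a b : T ⟶ ProjSpaceOver n S} (h₁ : a ≫ pfst n S = b ≫ pfst n S)
    (h₂ : a ≫ ProjSpaceOver.toBase n S = b ≫ ProjSpaceOver.toBase n S) : a = b :=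
  pullback.hom_ext h₁ h₂

theorem isPullback_projMap (n : ℕ) {S' : Scheme.{u}} (g : S' ⟶ S) :
    IsPullback (projMap n g) (ProjSpaceOver.toBase n S') (ProjSpaceOver.toBase n S) g := by
  refine IsPullback.of_right (h₁₂ := pfst n S)
    (h₂₂ := specULiftZIsTerminal.from S) (v₁₃ := ProjSpace.toSpec n (ULift.{u} ℤ)) ?_
    (projMap_toBase n g) (IsPullback.of_hasPullback _ _)
  rw [projMap_fst,
    show g ≫ specULiftZIsTerminal.from S = specULiftZIsTerminal.from S' from specULiftZIsTerminal.hom_ext _ _]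
  exact IsPullback.of_hasPullback _ _

/-- A morphism over the base into projective space is the base change of itself. -/
theorem isPullback_projMap_lift {n : ℕ} {S' X' : Scheme.{u}} {g : S' ⟶ S} {j : X' ⟶ X} {p : X' ⟶ S'} {f : X ⟶ S}
    (sq : IsPullback j p f g) {i : X ⟶ ProjSpaceOver n S} {i' : X' ⟶ ProjSpaceOver n S'}
    (hi : i ≫ ProjSpaceOver.toBase n S = f) (hi' : i' ≫ ProjSpaceOver.toBase n S' = p)
    (hfst : i' ≫ pfst n S' = j ≫ i ≫ pfst n S) :
    IsPullback j i' i (projMap n g) := by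
  have hc : j ≫ i = i' ≫ projMap n g := by
    refine hom_ext_toProj ?_ ?_
    · rw [Category.assoc, Category.assoc, projMap_fst, hfst]
    · rw [Category.assoc, Category.assoc, projMap_toBase, hi, ← Category.assoc, hi', sq.w]
  exact IsPullback.of_bot (v₂₁ := ProjSpaceOver.toBase n S') (v₂₂ := ProjSpaceOver.toBase n S)
    (by rw [hi, hi']; exact sq) hc (isPullback_projMap n g)

variable {f : X ⟶ S} [IsProper f] {g : Spec (CommRingCat.of K) ⟶ S} [IsPreimmersion g] {s : S}
  (hg : Set.range g = {s}) {j : Z ⟶ X} {p : Z ⟶ Spec (CommRingCat.of K)} (sq : IsPullback j p f g)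
  {L : X.Modules} (hL : PicF.IsInvertible L) {n : ℕ} (v : Fin (n + 1) → Γ(L, ⊤))

include hg sq in
/-- The fibre over the point lies in the locus of generation, and so do the nearby fibres. -/
theorem exists_nhd_generated (hL : PicF.IsInvertible L) (hw : GlobalVA p (fun l => pullTop j (v l))) :
    ∃ U : S.Opens, s ∈ U ∧ ∀ x, f x ∈ U → ∃ l, x ∈ gen L (v l) := by
  let G : X.Opens := ⨆ l, gen L (v l)
  have hZ : IsClosed (f '' (G : Set X)ᶜ) := f.isClosedMap _ G.isOpen.isClosed_compl
  refine ⟨⟨(f '' (G : Set X)ᶜ)ᶜ, hZ.isOpen_compl⟩, ?_, fun x hx => ?_⟩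
  · rintro ⟨x, hxG, hx⟩
    obtain ⟨z, rfl⟩ : x ∈ Set.range j := by
      have h1 : Set.range j = f ⁻¹' Set.range g := by
        rw [← sq.isoPullback_hom_fst, Scheme.Hom.comp_base, TopCat.coe_comp, Set.range_comp,
          Set.range_eq_univ.2 sq.isoPullback.hom.surjective, Set.image_univ, Scheme.Pullback.range_fst]
      rw [h1, hg]
      exact hx
    obtain ⟨l, hl⟩ := hw.cover z
    refine hxG (Opens.mem_iSup.2 ⟨l, ?_⟩)
    have h := gen_smul_pullSect j hL (v l) (c := 1) isUnit_one
    rw [one_smul] at h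
    exact h.le hl
  · exact Opens.mem_iSup.1 (by_contra fun hn => hx ⟨x, hn, rfl⟩)

include hg sq in
/-- Generating sections that embed the fibre embed the fibres nearby. -/
theorem exists_isRelVeryAmplePn_nhd (hL : PicF.IsInvertible L) (hv : ∀ x, ∃ l, x ∈ gen L (v l))
    (hw : GlobalVA p (fun l => pullTop j (v l))) :
    ∃ U : S.Opens, s ∈ U ∧ ∀ {S' X' : Scheme.{u}} (u : S' ⟶ S) (u' : X' ⟶ X) (f' : X' ⟶ S'),
      IsPullback u' f' f u → (∀ z, u z ∈ U) →
        RelAmple.IsRelVeryAmplePn f' ((Scheme.Modules.pullback u').obj L) := by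
  obtain ⟨r, τ, hτ⟩ := exists_toPn' hL v hv
  let T := Twist.twistProjSpace n (ULift.{u} ℤ) 1
  -- the morphism on the fibre
  let τz : (Scheme.Modules.pullback (j ≫ r)).obj T ≅ (Scheme.Modules.pullback j).obj L :=
    ((Scheme.Modules.pullbackComp j r).app T).symm ≪≫ (Scheme.Modules.pullback j).mapIso τ
  have hτz : ∀ l, τz.hom.app ⊤ (pullTop (j ≫ r) (L := T) (ProjUP.coord n (ULift.{u} ℤ) l)) = pullTop j (v l) := by
    intro l
    show ((Scheme.Modules.pullback j).map τ.hom).app ⊤
      (((Scheme.Modules.pullbackComp j r).inv.app T).app ⊤ (pullTop (j ≫ r) (L := T) (ProjUP.coord n _ l))) = _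
    refine (congrArg (((Scheme.Modules.pullback j).map τ.hom).app ⊤)
      (H17.PullSect.pullSect_comp j r T ⊤ (ProjUP.coord n _ l))).trans ?_
    refine (H17.PullSect.pullSect_natural j τ.hom ⊤ _).symm.trans ?_
    exact congrArg (OmegaSh.pullSect j L ⊤) (hτ l)
  obtain ⟨hpre, hrat⟩ := pn_sections (j ≫ r) τz _ hτz
  haveI : IsProper p := MorphismProperty.of_isPullback sq ‹IsProper f›
  have haff : ∀ l, IsAffineOpen (gen _ (pullTop j (v l))) := fun l => by
    simpa using hw.affine ⊤ (isAffineOpen_top _) l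
  have hsurj : ∀ l, Subring.closure (Set.range (p.appLE ⊤ (gen _ (pullTop j (v l))) le_top) ∪
      globalCoefs (fun l => pullTop j (v l)) l (gen _ (pullTop j (v l)))) = ⊤ := fun l => by
    suffices key : ∀ (G : Z.Opens) (hG : G ≤ p ⁻¹ᵁ ⊤), G = gen _ (pullTop j (v l)) ⊓ p ⁻¹ᵁ ⊤ →
        Subring.closure (Set.range (p.appLE ⊤ G hG) ∪ globalCoefs (fun l => pullTop j (v l)) l G) = ⊤ from
      key _ le_top (inf_eq_left.2 le_top).symm
    rintro G hG rfl
    exact hw.surj ⊤ (isAffineOpen_top _) l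
  obtain ⟨iz, hz₁, hz₂, hz⟩ := isImmersion_lift p (j ≫ r) _ hpre hrat Set.univ
    (fun x => (hw.cover x).imp fun _ h => ⟨trivial, h⟩) (fun l _ => haff l) (fun l _ => hsurj l)
  haveI := hz
  haveI := isClosedImmersion_of_isImmersion p iz hz₂
  -- the morphism on the whole
  let h := ProjSpaceOver.toBase n S
  let i : X ⟶ ProjSpaceOver n S := pullback.lift r f (specULiftZIsTerminal.hom_ext _ _)
  have hi₁ : i ≫ pfst n S = r := pullback.lift_fst _ _ _
  have hi₂ : i ≫ h = f := pullback.lift_snd _ _ _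
  haveI : IsProper h := H27Weil.isProper_toBase n S
  haveI : IsProper i := by
    haveI : IsProper (i ≫ h) := by rw [hi₂]; infer_instance
    exact IsProper.of_comp i h
  have sqπ := isPullback_projMap n g
  have hsq : IsPullback j iz i (projMap n g) := isPullback_projMap_lift sq hi₂ hz₂ (hz₁.trans (congrArg (j ≫ ·) hi₁.symm))
  haveI : IsPreimmersion (projMap n g) := MorphismProperty.of_isPullback sqπ.flip ‹IsPreimmersion g›
  have hloc : ∀ y, h y = s → ∃ W : (ProjSpaceOver n S).Opens, y ∈ W ∧ IsClosedImmersion (i ∣_ W) := by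
    intro y hy
    refine (Groth.Agent.H8Props.ClosedImmersionNhd.closedImmersion_nhd_iff i y).2 ⟨?_, ⊤, trivial, inferInstance⟩
    obtain ⟨y', rfl⟩ : y ∈ Set.range (projMap n g) := by
      rw [← sqπ.isoPullback_hom_fst, Scheme.Hom.comp_base, TopCat.coe_comp, Set.range_comp,
        Set.range_eq_univ.2 sqπ.isoPullback.hom.surjective, Set.image_univ, Scheme.Pullback.range_fst, hg]
      exact hy
    have hfib := ((Groth.Agent.H8Props.ClosedImmersionNhd.closedImmersion_nhd_iff iz y').1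
      ⟨⊤, trivial, inferInstance⟩).1
    have hpb := isPullback_fiberToSpecResidueField_of_isPullback hsq y'
    haveI : IsIso ((projMap n g).residueFieldMap y') := by
      rw [ConcreteCategory.isIso_iff_bijective]
      refine ⟨((projMap n g).residueFieldMap y').hom.injective, fun z => ?_⟩
      obtain ⟨a, rfl⟩ := Scheme.residue_surjective _ _ z
      obtain ⟨b, rfl⟩ := (projMap n g).stalkMap_surjective y' a
      exact ⟨(ProjSpaceOver n S).residue _ b, congr($(Scheme.residue_residueFieldMap (projMap n g) y') b)⟩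
    haveI : IsIso (Spec.map ((projMap n g).residueFieldMap y')) :=
      inferInstanceAs (IsIso (Scheme.Spec.map ((projMap n g).residueFieldMap y').op))
    have hi1 := hpb.isIso_fst_of_isIso
    obtain ⟨m, hm, hw'⟩ : ∃ m : iz.fiber y' ⟶ i.fiber (projMap n g y'), IsIso m ∧
        m ≫ i.fiberToSpecResidueField _ =
          iz.fiberToSpecResidueField y' ≫ Spec.map ((projMap n g).residueFieldMap y') := ⟨_, hi1, hpb.w⟩
    rcases hfib with he | hi
    · left
      exact @Function.isEmpty _ _ he (inv m : i.fiber _ ⟶ _).base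
    · right
      have : IsIso (m ≫ i.fiberToSpecResidueField _) := by rw [hw']; infer_instance
      exact IsIso.of_isIso_comp_left m _
  let W : (ProjSpaceOver n S).Opens := sSup {V | IsClosedImmersion (i ∣_ V)}
  have hcl : IsClosed (h '' (W : Set (ProjSpaceOver n S))ᶜ) := h.isClosedMap _ W.2.isClosed_compl
  let U : S.Opens := ⟨(h '' (W : Set (ProjSpaceOver n S))ᶜ)ᶜ, hcl.isOpen_compl⟩
  refine ⟨U, ?_, ?_⟩
  · rintro ⟨y, hy, hys⟩
    obtain ⟨V, hyV, hV⟩ := hloc y hys
    exact hy (Opens.mem_sSup.2 ⟨V, hV, hyV⟩)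
  intro S' X' u u' f' sq' hu
  haveI : IsClosedImmersion (i ∣_ W) := by
    let D : {V : (ProjSpaceOver n S).Opens | IsClosedImmersion (i ∣_ V)} → W.toScheme.Opens :=
      fun V => W.ι ⁻¹ᵁ V.1
    refine (IsZariskiLocalAtTarget.iff_of_iSup_eq_top (P := @IsClosedImmersion) D ?_).2 fun V => ?_
    · refine eq_top_iff.2 fun y _ => ?_
      obtain ⟨V, hV, hyV⟩ := Opens.mem_sSup.1 y.2
      exact Opens.mem_iSup.2 ⟨⟨V, hV⟩, hyV⟩
    · refine (MorphismProperty.arrow_mk_iso_iff @IsClosedImmersion (morphismRestrictRestrict i W _)).2 ?_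
      have he : W.ι ''ᵁ W.ι ⁻¹ᵁ V.1 = V.1 := by
        rw [Scheme.Hom.image_preimage_eq_opensRange_inf, Scheme.Opens.opensRange_ι, inf_eq_right.2 (le_sSup V.2)]
      exact (MorphismProperty.arrow_mk_iso_iff @IsClosedImmersion (morphismRestrictEq i he)).2 V.2
  let i' : X' ⟶ ProjSpaceOver n S' := pullback.lift (u' ≫ r) f' (specULiftZIsTerminal.hom_ext _ _)
  have hi₁' : i' ≫ pfst n S' = u' ≫ r := pullback.lift_fst _ _ _
  have hi₂' : i' ≫ ProjSpaceOver.toBase n S' = f' := pullback.lift_snd _ _ _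
  have sqi : IsPullback u' i' i (projMap n u) := isPullback_projMap_lift sq' hi₂ hi₂' (hi₁'.trans (congrArg (u' ≫ ·) hi₁.symm))
  -- the image lies where the morphism is a closed immersion
  have hrange : ∀ z, projMap n u z ∈ W := fun z => by
    by_contra hn
    apply hu (ProjSpaceOver.toBase n S' z)
    refine ⟨projMap n u z, hn, ?_⟩
    rw [← Scheme.Hom.comp_apply, (isPullback_projMap n u).w]
    rfl
  let k : ProjSpaceOver n S' ⟶ W := IsOpenImmersion.lift W.ι (projMap n u) (by
    rintro _ ⟨z, rfl⟩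
    rw [Scheme.Opens.range_ι]
    exact hrange z)
  have hk : k ≫ W.ι = projMap n u := IsOpenImmersion.lift_fac _ _ _
  let k' : X' ⟶ i ⁻¹ᵁ W := IsOpenImmersion.lift (i ⁻¹ᵁ W).ι u' (by
    rintro _ ⟨z, rfl⟩
    rw [Scheme.Opens.range_ι]
    show i (u' z) ∈ W
    rw [← Scheme.Hom.comp_apply, sqi.w, Scheme.Hom.comp_apply]
    exact hrange _)
  have hk' : k' ≫ (i ⁻¹ᵁ W).ι = u' := IsOpenImmersion.lift_fac _ _ _
  have sqW : IsPullback k' i' (i ∣_ W) k := by
    refine IsPullback.of_right ?_ ?_ (isPullback_morphismRestrict i W).flip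
    · rw [hk', hk]; exact sqi
    · rw [← cancel_mono W.ι, Category.assoc, Category.assoc, morphismRestrict_ι, hk, ← Category.assoc, hk', sqi.w]
  haveI : IsClosedImmersion i' := MorphismProperty.of_isPullback sqW ‹IsClosedImmersion (i ∣_ W)›
  exact ⟨n, i', inferInstance, hi₂',
    ⟨((Scheme.Modules.pullback u').mapIso τ).symm ≪≫ (Scheme.Modules.pullbackComp u' r).app T ≪≫
      (Scheme.Modules.pullbackCongr hi₁').symm.app T ≪≫
        ((Scheme.Modules.pullbackComp i' _).app T).symm⟩⟩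

end Groth.Agent.LeadVA
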