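import Groth.Agent.LeadBC.Seesaw

/-!
# Sections on a fibre lift when the degree zero functor is right exact
-/

set_option autoImplicit false
set_option linter.style.haveILetI false
set_option linter.unusedSectionVars false

universe u

open CategoryTheory CategoryTheory.Limits AlgebraicGeometry Opposite TopologicalSpace
open scoped TensorProduct

namespace Groth.Agent.LeadVA

open Groth.Agent.H11Tilde Groth.Agent.LeadBC.GenBC Groth.Agent.H10Coh

attribute [local instance 10000] H10Coh.hasSheafifyAb H10Coh.hasWeakSheafifyAb H10Coh.hasExtAb H10Coh.enoughInjAb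

variable {X S : Scheme.{u}} (f : X ⟶ S) (L : X.Modules) (s : S)

theorem top_le_preimage {V : S.Opens} (hs : s ∈ V) : (⊤ : (f.fiber s).Opens) ≤ f.fiberι s ⁻¹ᵁ (f ⁻¹ᵁ V) :=
  fun z _ => by
    show f (f.fiberι s z) ∈ V
    rw [show f (f.fiberι s z) = s from (f.range_fiberι s).le ⟨z, rfl⟩]
    exact hs

/-- A section on the fibre coming from a section over the preimage of a neighbourhood. -/
def Lifts (w : Γ(CohIII.fiberMod f L s, ⊤)) : Prop :=
  ∃ (V : S.Opens) (hs : s ∈ V) (b : Γ(L, f ⁻¹ᵁ V)),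
    rs ((Scheme.Modules.pullback (f.fiberι s)).obj L) (top_le_preimage f s hs)
      (OmegaSh.pullSect (f.fiberι s) L (f ⁻¹ᵁ V) b) = w

variable {f L s}

theorem Lifts.res {V V' : S.Opens} (hs : s ∈ V) (hs' : s ∈ V') (h : V' ≤ V) (b : Γ(L, f ⁻¹ᵁ V)) :
    rs ((Scheme.Modules.pullback (f.fiberι s)).obj L) (top_le_preimage f s hs')
      (OmegaSh.pullSect (f.fiberι s) L (f ⁻¹ᵁ V') (rs L (f.preimage_mono h) b)) =
    rs ((Scheme.Modules.pullback (f.fiberι s)).obj L) (top_le_preimage f s hs)
      (OmegaSh.pullSect (f.fiberι s) L (f ⁻¹ᵁ V) b) := by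
  refine (congrArg _ (pullSect_res (f.fiberι s) L (f.preimage_mono h) b)).trans ?_
  exact rs_rs _ _ _ _

theorem Lifts.add {w w' : Γ(CohIII.fiberMod f L s, ⊤)} (h : Lifts f L s w) (h' : Lifts f L s w') :
    Lifts f L s (w + w') := by
  obtain ⟨V, hs, b, rfl⟩ := h
  obtain ⟨V', hs', b', rfl⟩ := h'
  refine ⟨V ⊓ V', ⟨hs, hs'⟩, rs L (f.preimage_mono inf_le_left) b + rs L (f.preimage_mono inf_le_right) b', ?_⟩
  rw [map_add, map_add]
  exact congr_arg₂ (· + ·) (Lifts.res hs (show s ∈ V ⊓ V' from ⟨hs, hs'⟩) inf_le_left b)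
    (Lifts.res hs' (show s ∈ V ⊓ V' from ⟨hs, hs'⟩) inf_le_right b')

theorem Lifts.smul {w : Γ(CohIII.fiberMod f L s, ⊤)} (h : Lifts f L s w) (c : Γ(Spec (S.residueField s), ⊤)) :
    Lifts f L s ((f.fiberToSpecResidueField s).appTop c • w) := by
  obtain ⟨V, hs, b, rfl⟩ := h
  -- scalars come from functions near the point
  obtain ⟨W, hsW, a, ha⟩ : ∃ (W : S.Opens) (hsW : s ∈ W) (a : Γ(S, W)),
      (Scheme.ΓSpecIso (S.residueField s)).inv (S.evaluation W s hsW a) = c := by
    obtain ⟨z, hz⟩ := S.residue_surjective s ((Scheme.ΓSpecIso (S.residueField s)).hom c)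
    obtain ⟨W, hsW, a, rfl⟩ := S.presheaf.exists_germ_eq z
    refine ⟨W, hsW, a, ?_⟩
    refine (congrArg (Scheme.ΓSpecIso (S.residueField s)).inv hz).trans ?_
    rw [← CommRingCat.comp_apply, Iso.hom_inv_id]
    rfl
  let V' := V ⊓ W
  have hs' : s ∈ V' := ⟨hs, hsW⟩
  let a' : Γ(S, V') := S.presheaf.map (homOfLE (inf_le_right : V' ≤ W)).op a
  refine ⟨V', hs', f.app V' a' • rs L (f.preimage_mono inf_le_left) b, ?_⟩
  rw [OmegaSh.pullSect_smul]
  refine (Scheme.Modules.map_smul _ _ _ _).trans ?_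
  refine congr_arg₂ (· • ·) ?_ (Lifts.res hs hs' inf_le_left b)
  -- the function on the fibre
  have hle : (⊤ : (Spec (S.residueField s)).Opens) ≤ S.fromSpecResidueField s ⁻¹ᵁ V' := fun z _ => by
    show S.fromSpecResidueField s z ∈ V'
    rw [Scheme.fromSpecResidueField_apply]
    exact hs'
  have h1 : (f.fiberι s ≫ f).appLE V' ⊤ (top_le_preimage f s hs') a' =
      (f.fiberToSpecResidueField s ≫ S.fromSpecResidueField s).appLE V' ⊤ (fun z _ => hle trivial) a' := by
    have e : f.fiberι s ≫ f = f.fiberToSpecResidueField s ≫ S.fromSpecResidueField s := pullback.condition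
    simp only [e]
  refine Eq.trans ?_ (h1.trans ?_)
  · simp [Scheme.Hom.appLE]
  · rw [← Scheme.Hom.appLE_comp_appLE (f.fiberToSpecResidueField s) (S.fromSpecResidueField s) V' ⊤ ⊤ hle le_top,
      CommRingCat.comp_apply]
    have h2 : (S.fromSpecResidueField s).appLE V' ⊤ hle a' = c := by
      rw [← ha, ← CommRingCat.comp_apply, Scheme.Hom.map_appLE]
      simp only [Scheme.fromSpecResidueField, Scheme.Hom.comp_appLE, Scheme.fromSpecStalk_app (show s ∈ W from hsW),
        Category.assoc, Scheme.Hom.map_appLE, CommRingCat.comp_apply]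
      exact congr($(Scheme.ΓSpecIso_inv_naturality (S.residue s)) _).symm
    rw [h2]
    simp [Scheme.Hom.appTop, Scheme.Hom.app_eq_appLE]

variable (f L s) [IsProper f] [Flat f] [LocallyOfFinitePresentation f]

/-- When sections spread out, every section on the fibre lifts to a neighbourhood. -/
theorem exists_lift (hL : PicF.IsInvertible L)
    (hE : ∃ (W : S.Opens) (hW : IsAffineOpen W), s ∈ W ∧ EpiOn f L hW 0)
    (w : Γ(CohIII.fiberMod f L s, ⊤)) : Lifts f L s w := by
  have hlf := H23Para.isFinLocFree_of_isInvertible hL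
  have hfp : CohB1.IsFP L := H8Props.FinLocFree.isFP_of_isFinLocFree L hlf
  have hfl : FlatMod.IsFlatOver f L := H10Coh.SheafHom.isFlatOver_of_isFinLocFree f L hlf
  haveI : L.IsQuasicoherent := H29Fitt.isQCoh_of_isFP L hfp
  haveI := H10Coh.enoughInjMod X
  obtain ⟨V, hV, hs, -⟩ := exists_isAffineOpen_mem_and_subset (U := (⊤ : S.Opens)) (x := s) trivial
  have hsq : IsPullback (f.fiberι s) (f.fiberToSpecResidueField s) f (S.fromSpecResidueField s) :=
    IsPullback.of_hasPullback f (S.fromSpecResidueField s)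
  have hle : (⊤ : (Spec (S.residueField s)).Opens) ≤ S.fromSpecResidueField s ⁻¹ᵁ V := fun z _ => by
    show S.fromSpecResidueField s z ∈ V
    rw [Scheme.fromSpecResidueField_apply]
    exact hs
  haveI := isIso_bc_zero f L hsq hfp hfl fun z => by
    rw [Scheme.fromSpecResidueField_apply]; exact hE
  letI := ((S.fromSpecResidueField s).appLE V ⊤ hle).hom.toAlgebra
  letI := Module.compHom Γ((Scheme.Modules.pushforward (f.fiberToSpecResidueField s)).obj
      ((Scheme.Modules.pullback (f.fiberι s)).obj L), ⊤)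
    ((S.fromSpecResidueField s).appLE V ⊤ hle).hom
  haveI : IsScalarTower Γ(S, V) Γ(Spec (S.residueField s), ⊤)
      Γ((Scheme.Modules.pushforward (f.fiberToSpecResidueField s)).obj
        ((Scheme.Modules.pullback (f.fiberι s)).obj L), ⊤) := .of_algebraMap_smul fun _ _ => rfl
  obtain ⟨c, hc, hcf⟩ := exists_transpose_app (S.fromSpecResidueField s)
    (H10Coh.isQuasicoherent_pushforward f L) (τ₀ f L hsq) hV (isAffineOpen_top _) hle
  have hsurj : Function.Surjective (LinearMap.liftBaseChange Γ(Spec (S.residueField s), ⊤)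
      (FBC.locLin (S.fromSpecResidueField s) (τ₀ f L hsq) hle)) := by
    rw [hcf]
    exact ((ConcreteCategory.bijective_of_isIso _).comp hc).2
  obtain ⟨z, hz⟩ := hsurj (show Γ((Scheme.Modules.pushforward (f.fiberToSpecResidueField s)).obj
      ((Scheme.Modules.pullback (f.fiberι s)).obj L), ⊤) from w)
  replace hz : w = LinearMap.liftBaseChange Γ(Spec (S.residueField s), ⊤)
      (FBC.locLin (S.fromSpecResidueField s) (τ₀ f L hsq) hle) z := hz.symm
  subst hz
  induction z using TensorProduct.induction_on with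
  | zero =>
    refine ⟨V, hs, 0, ?_⟩
    rw [map_zero, map_zero, map_zero]
    rfl
  | add x y hx hy => rw [map_add]; exact hx.add hy
  | tmul r m =>
    rw [LinearMap.liftBaseChange_tmul]
    exact Lifts.smul (⟨V, hs, m, (LeadBC.Seesaw.locLin_τ₀ f L hsq hle (preimage_le f hsq hle) m).symm⟩ :
      Lifts f L s _) r

end Groth.Agent.LeadVA
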