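import Groth.Agent.LeadVA.Spread
import Groth.Agent.LeadVA.Lift
import Groth.Agent.LeadBC.GenBC.Conseq
import Groth.Agent.S12481

/-!
# Relative very ampleness from the fibres
-/

set_option autoImplicit false
set_option linter.style.haveILetI false
set_option linter.unusedSectionVars false

noncomputable section

universe u

open CategoryTheory CategoryTheory.Limits AlgebraicGeometry Opposite TopologicalSpace CohB1
open Groth.Agent.H11Tilde Groth.Agent.H11Ample Groth.Agent.H11Proj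

namespace Groth.Agent.LeadVA

attribute [local instance 10000] H10Coh.hasSheafifyAb H10Coh.hasWeakSheafifyAb H10Coh.hasExtAb H10Coh.enoughInjAb

variable {X S Z : Scheme.{u}}

/-- Sections over the preimage of an open, as global sections of the restricted module. -/
def restrSec (f : X ⟶ S) (L : X.Modules) {V : S.Opens} (b : Γ(L, f ⁻¹ᵁ V)) :
    Γ((Scheme.Modules.pullback (f ⁻¹ᵁ V).ι).obj L, ⊤) :=
  ((Scheme.Modules.pullback (f ⁻¹ᵁ V).ι).obj L).presheaf.map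
    (homOfLE (show (⊤ : (f ⁻¹ᵁ V).toScheme.Opens) ≤ (f ⁻¹ᵁ V).ι ⁻¹ᵁ (f ⁻¹ᵁ V) from fun z _ => z.2)).op
    (OmegaSh.pullSect (f ⁻¹ᵁ V).ι L (f ⁻¹ᵁ V) b)

/-- Restricting the data to an open neighbourhood of the point. -/
theorem exists_restrict {K : Type u} [Field K] (f : X ⟶ S) {g : Spec (CommRingCat.of K) ⟶ S} [IsPreimmersion g]
    {s : S} (hg : Set.range g = {s}) {j : Z ⟶ X} {p : Z ⟶ Spec (CommRingCat.of K)} (sq : IsPullback j p f g)
    {L : X.Modules} {V : S.Opens} (hs : s ∈ V) {k : ℕ} (b : Fin k → Γ(L, f ⁻¹ᵁ V))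
    (hle : (⊤ : Z.Opens) ≤ j ⁻¹ᵁ (f ⁻¹ᵁ V))
    (hw : GlobalVA p (fun l => ((Scheme.Modules.pullback j).obj L).presheaf.map (homOfLE hle).op
      (OmegaSh.pullSect j L (f ⁻¹ᵁ V) (b l)))) :
    ∃ (g₀ : Spec (CommRingCat.of K) ⟶ V.toScheme) (_ : IsPreimmersion g₀)
      (_ : Set.range g₀ = ({⟨s, hs⟩} : Set V.toScheme)) (j₀ : Z ⟶ (f ⁻¹ᵁ V).toScheme) (_ : IsPullback j₀ p (f ∣_ V) g₀),
        GlobalVA p (fun l => pullTop j₀ (restrSec f L (b l))) := by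
  have hgV : Set.range g ⊆ Set.range V.ι := by
    rw [hg, Scheme.Opens.range_ι, Set.singleton_subset_iff]
    exact hs
  let g₀ : Spec (CommRingCat.of K) ⟶ V.toScheme := IsOpenImmersion.lift V.ι g hgV
  have hg₀ : g₀ ≫ V.ι = g := IsOpenImmersion.lift_fac _ _ _
  have hpre : IsPreimmersion g₀ := by
    haveI : IsPreimmersion (g₀ ≫ V.ι) := by rw [hg₀]; infer_instance
    exact IsPreimmersion.of_comp g₀ V.ι
  let j₀ : Z ⟶ (f ⁻¹ᵁ V).toScheme := IsOpenImmersion.lift (f ⁻¹ᵁ V).ι j (by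
    rintro _ ⟨z, rfl⟩
    rw [Scheme.Opens.range_ι]
    exact hle (trivial : z ∈ (⊤ : Z.Opens)))
  have hj₀ : j₀ ≫ (f ⁻¹ᵁ V).ι = j := IsOpenImmersion.lift_fac _ _ _
  have sq₀ : IsPullback j₀ p (f ∣_ V) g₀ := by
    refine IsPullback.of_right ?_ ?_ (isPullback_morphismRestrict f V).flip
    · rw [hj₀, hg₀]; exact sq
    · rw [← cancel_mono V.ι, Category.assoc, Category.assoc, morphismRestrict_ι, hg₀, ← Category.assoc, hj₀, sq.w]
  refine ⟨g₀, hpre, ?_, j₀, sq₀, ?_⟩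
  · refine Set.eq_singleton_iff_nonempty_unique_mem.2 ⟨Set.range_nonempty _, ?_⟩
    rintro _ ⟨z, rfl⟩
    refine Subtype.ext ?_
    have h1 : g z ∈ ({s} : Set S) := hg.subset ⟨z, rfl⟩
    rw [← hg₀, Scheme.Hom.comp_apply] at h1
    exact h1
  · obtain ⟨φ, hφ⟩ := exists_iso_pullTop j₀ (f ⁻¹ᵁ V).ι j hj₀ L
    have h := globalVA_map_iso φ.symm hw
    refine Eq.mp (congrArg (fun w => GlobalVA p w) (funext fun l => ?_)) h
    show φ.inv.app ⊤ _ = _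
    rw [← hφ (f ⁻¹ᵁ V) (fun z _ => z.2) hle (b l), ← ConcreteCategory.comp_apply,
      ← Scheme.Modules.Hom.comp_app, φ.hom_inv_id]
    rfl

/-- Near a point with very ample fibre whose sections spread out, the module is very ample. -/
theorem exists_veryAmple_nhd (f : X ⟶ S) [IsProper f] [Flat f] [LocallyOfFinitePresentation f] (L : X.Modules)
    (hL : PicF.IsInvertible L) (s : S)
    (hva : RelAmple.IsRelVeryAmplePn (f.fiberToSpecResidueField s) ((Scheme.Modules.pullback (f.fiberι s)).obj L))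
    (hH1 : Subsingleton (CohIII.fiberH f L s 1)) :
    ∃ V : S.Opens, s ∈ V ∧ RelAmple.IsRelVeryAmplePn (f ∣_ V) (L.restrict (f ⁻¹ᵁ V).ι) := by
  classical
  have hlf := H23Para.isFinLocFree_of_isInvertible hL
  have hfp : CohB1.IsFP L := H8Props.FinLocFree.isFP_of_isFinLocFree L hlf
  have hfl : FlatMod.IsFlatOver f L := H10Coh.SheafHom.isFlatOver_of_isFinLocFree f L hlf
  haveI : L.IsQuasicoherent := H29Fitt.isQCoh_of_isFP L hfp
  haveI := H10Coh.enoughInjMod X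
  obtain ⟨W, hW, hsW, -, hm, -, -⟩ := LeadBC.GenBC.exists_vanishing_nhd f L hfp hfl 1 hH1
  have hE : ∃ (W : S.Opens) (hW : IsAffineOpen W), s ∈ W ∧ LeadBC.GenBC.EpiOn f L hW 0 :=
    ⟨W, hW, hsW, (LeadBC.GenBC.monoOn_succ_iff f L hW hfp hfl 0).1 hm⟩
  haveI : IsProper (f.fiberToSpecResidueField s) :=
    MorphismProperty.of_isPullback (IsPullback.of_hasPullback f (S.fromSpecResidueField s)) ‹IsProper f›
  obtain ⟨n, w, hw⟩ := exists_globalVA_of_isRelVeryAmplePn (f.fiberToSpecResidueField s) hva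
  choose V hs b hb using fun l => exists_lift f L s hL hE (w l)
  let V₀ : S.Opens := Finset.univ.inf V
  have hs₀ : s ∈ V₀ := by
    suffices h : ∀ T : Finset (Fin (n + 1)), s ∈ T.inf V from h _
    intro T
    induction T using Finset.induction_on with
    | empty => exact trivial
    | insert a T _ h => rw [Finset.inf_insert]; exact ⟨hs a, h⟩
  let b₀ : ∀ l, Γ(L, f ⁻¹ᵁ V₀) := fun l => H10Coh.rs L (f.preimage_mono (Finset.inf_le (Finset.mem_univ l))) (b l)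
  have hsq : IsPullback (f.fiberι s) (f.fiberToSpecResidueField s) f (S.fromSpecResidueField s) :=
    IsPullback.of_hasPullback f (S.fromSpecResidueField s)
  obtain ⟨g₀, hpre₀, hg₀, j₀, sq₀, hw₀⟩ := exists_restrict (K := S.residueField s) f
    (S.range_fromSpecResidueField s) hsq hs₀ b₀ (top_le_preimage f s hs₀) (by
      refine Eq.mp (congrArg (fun t => GlobalVA (f.fiberToSpecResidueField s) t) (funext fun l => ?_)) hw
      exact ((Lifts.res (hs l) hs₀ (Finset.inf_le (Finset.mem_univ l)) (b l)).trans (hb l)).symm)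
  haveI := hpre₀
  let L₀ := (Scheme.Modules.pullback (f ⁻¹ᵁ V₀).ι).obj L
  let f₀ := f ∣_ V₀
  have hL₀ : PicF.IsInvertible L₀ := H11Ample.isInvertible_pullback _ hL
  obtain ⟨U₀, hsU, hgenU⟩ := exists_nhd_generated hg₀ sq₀ (fun l => restrSec f L (b₀ l)) hL₀ hw₀
  let b₁ : ∀ l, Γ(L₀, f₀ ⁻¹ᵁ U₀) := fun l => H10Coh.rs L₀ le_top (restrSec f L (b₀ l))
  have hle₁ : (⊤ : (f.fiber s).Opens) ≤ j₀ ⁻¹ᵁ (f₀ ⁻¹ᵁ U₀) := fun z _ => by
    show f₀ (j₀ z) ∈ U₀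
    rw [← Scheme.Hom.comp_apply, sq₀.w, Scheme.Hom.comp_apply]
    have : g₀ (f.fiberToSpecResidueField s z) = ⟨s, hs₀⟩ := hg₀.subset ⟨_, rfl⟩
    rw [this]
    exact hsU
  obtain ⟨g₁, hpre₁, hg₁, j₁, sq₁, hw₁⟩ := exists_restrict f₀ hg₀ sq₀ hsU b₁ hle₁ (by
    refine Eq.mp (congrArg (fun t => GlobalVA (f.fiberToSpecResidueField s) t) (funext fun l => ?_)) hw₀
    refine Eq.symm ((congrArg _ (pullSect_res j₀ L₀ (le_top : f₀ ⁻¹ᵁ U₀ ≤ ⊤) (restrSec f L (b₀ l)))).trans ?_)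
    exact (H10Coh.rs_rs _ _ _ _).trans (H10Coh.mres_self _ _ _))
  haveI := hpre₁
  let L₁ := (Scheme.Modules.pullback (f₀ ⁻¹ᵁ U₀).ι).obj L₀
  have hcov : ∀ x, ∃ l, x ∈ gen L₁ (restrSec f₀ L₀ (b₁ l)) := fun x => by
    obtain ⟨l, hl⟩ := hgenU ((f₀ ⁻¹ᵁ U₀).ι x) x.2
    refine ⟨l, ?_⟩
    have e : restrSec f₀ L₀ (b₁ l) = pullTop (f₀ ⁻¹ᵁ U₀).ι (restrSec f L (b₀ l)) :=
      (congrArg _ (pullSect_res (f₀ ⁻¹ᵁ U₀).ι L₀ (le_top : f₀ ⁻¹ᵁ U₀ ≤ ⊤) (restrSec f L (b₀ l)))).trans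
        ((H10Coh.rs_rs _ _ _ _).trans (H10Coh.mres_self _ _ _))
    have h := gen_smul_pullSect (f₀ ⁻¹ᵁ U₀).ι hL₀ (restrSec f L (b₀ l)) (c := 1) isUnit_one
    rw [one_smul] at h
    rw [e]
    exact h.ge hl
  obtain ⟨U₁, hsU₁, hall⟩ := exists_isRelVeryAmplePn_nhd hg₁ sq₁ (fun l => restrSec f₀ L₀ (b₁ l))
    (H11Ample.isInvertible_pullback _ hL₀) hcov hw₁
  let a : U₀.toScheme ⟶ S := U₀.ι ≫ V₀.ι
  let W' : S.Opens := a ''ᵁ U₁
  refine ⟨W', ⟨⟨⟨s, hs₀⟩, hsU⟩, hsU₁, rfl⟩, ?_⟩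
  let u : W'.toScheme ⟶ U₀.toScheme := IsOpenImmersion.lift a W'.ι (by
    rw [Scheme.Opens.range_ι]
    rintro _ ⟨z, -, rfl⟩
    exact ⟨z, rfl⟩)
  have hu : u ≫ a = W'.ι := IsOpenImmersion.lift_fac _ _ _
  have big : IsPullback ((f₀ ⁻¹ᵁ U₀).ι ≫ (f ⁻¹ᵁ V₀).ι) (f₀ ∣_ U₀) f a :=
    (isPullback_morphismRestrict f₀ U₀).flip.paste_horiz (isPullback_morphismRestrict f V₀).flip
  have sqW := (isPullback_morphismRestrict f W').flip
  let u' : (f ⁻¹ᵁ W').toScheme ⟶ (f₀ ⁻¹ᵁ U₀).toScheme :=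
    big.lift (f ⁻¹ᵁ W').ι ((f ∣_ W') ≫ u) (by rw [Category.assoc, hu, morphismRestrict_ι])
  have hu' : u' ≫ (f₀ ⁻¹ᵁ U₀).ι ≫ (f ⁻¹ᵁ V₀).ι = (f ⁻¹ᵁ W').ι := big.lift_fst _ _ _
  have sq' : IsPullback u' (f ∣_ W') (f₀ ∣_ U₀) u :=
    IsPullback.of_right (by rw [hu', hu]; exact sqW) (big.lift_snd _ _ _) big
  obtain ⟨m, i, hi, hiq, ⟨e⟩⟩ := hall u u' (f ∣_ W') sq' fun z => by
    obtain ⟨y, hy, hyz⟩ := z.2
    have : u z = y := a.isOpenEmbedding.injective (by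
      rw [← Scheme.Hom.comp_apply, hu]
      exact hyz.symm)
    rw [this]
    exact hy
  refine ⟨m, i, hi, hiq, ⟨(Scheme.Modules.restrictFunctorIsoPullback (f ⁻¹ᵁ W').ι).app L ≪≫ ?_ ≪≫ e⟩⟩
  exact (Scheme.Modules.pullbackCongr hu'.symm).app L ≪≫
    ((Scheme.Modules.pullbackComp u' ((f₀ ⁻¹ᵁ U₀).ι ≫ (f ⁻¹ᵁ V₀).ι)).app L).symm ≪≫
    (Scheme.Modules.pullback u').mapIso ((Scheme.Modules.pullbackComp (f₀ ⁻¹ᵁ U₀).ι (f ⁻¹ᵁ V₀).ι).app L).symm

/-- Relative very ampleness from the fibres. -/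
theorem isRelVeryAmple_of_fibres (f : X ⟶ S) [IsProper f] [Flat f] [LocallyOfFinitePresentation f] (L : X.Modules)
    (hL : PicF.IsInvertible L)
    (hva : ∀ s : S, RelAmple.IsRelVeryAmplePn (f.fiberToSpecResidueField s)
      ((Scheme.Modules.pullback (f.fiberι s)).obj L))
    (hH1 : ∀ s : S, Subsingleton (CohIII.fiberH f L s 1)) : RelProj.IsRelVeryAmple f L := by
  choose V hs h using fun s => exists_veryAmple_nhd f L hL s (hva s) (hH1 s)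
  exact Groth.Agent.S12481.result f L hL V (eq_top_iff.2 fun s _ => Opens.mem_iSup.2 ⟨s, hs s⟩) h

end Groth.Agent.LeadVA
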